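/-
Helper56 library: the group `Fi23` on 31671 points (certificate of helper28): images of points,
the base of the stabiliser chain, the exact orbits of the stabilisers of the chain, and fifth
base points with a regular orbit.  (The orbit argument follows the one of helper7 for `He`.)
-/
import Cfsg.Agent.Helper28.F23.Simple
import Cfsg.Agent.Helper28.TCL3

set_option autoImplicit false

namespace Cfsg.Agent.Helper56.Fi23Out

open Cfsg.Agent.Helper28

/-- the value of a generator column -/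
noncomputable abbrev gv (k : ℕ) : Cfsg.Spor.Fi23 :=
  coxVal Cfsg.Spor.Fi23.edges Cfsg.Spor.Fi23.extra C1689.gen C1689.D.jc k

/-- the value of a word -/
noncomputable abbrev wv (l : List ℕ) : Cfsg.Spor.Fi23 := (l.map gv).prod

theorem wv_append (l1 l2 : List ℕ) : wv (l1 ++ l2) = wv l1 * wv l2 := by
  show ((l1 ++ l2).map gv).prod = (l1.map gv).prod * (l2.map gv).prod
  rw [List.map_append, List.prod_append]

theorem jc_eq : C1689.D.jc = 10 := by decide +kernel

theorem gv_sq (k : ℕ) (hk : k < 10) : gv k * gv k = 1 :=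
  C1689.cert.valInv k (by rw [jc_eq]; omega)

/-- the image of the point `b` under `x` -/
noncomputable def pt (x : Cfsg.Spor.Fi23) (b : ℕ) : ℕ :=
  if h : b < 31671 then ((C1689.cert.perm x ⟨b, h⟩ : Fin 31671) : ℕ) else b

theorem pt_of_lt (x : Cfsg.Spor.Fi23) {b : ℕ} (hb : b < 31671) :
    pt x b = ((C1689.cert.perm x ⟨b, hb⟩ : Fin 31671) : ℕ) := dif_pos hb

theorem pt_of_ge (x : Cfsg.Spor.Fi23) {b : ℕ} (hb : ¬ b < 31671) : pt x b = b := dif_neg hb

theorem pt_lt (x : Cfsg.Spor.Fi23) {b : ℕ} (hb : b < 31671) : pt x b < 31671 := by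
  rw [pt_of_lt x hb]
  exact Fin.isLt _

theorem pt_one (b : ℕ) : pt 1 b = b := by
  by_cases h : b < 31671
  · rw [pt_of_lt _ h, map_one]; rfl
  · exact pt_of_ge _ h

theorem pt_mul (x y : Cfsg.Spor.Fi23) (b : ℕ) : pt (x * y) b = pt x (pt y b) := by
  by_cases h : b < 31671
  · rw [pt_of_lt _ h, pt_of_lt y h, pt_of_lt x (Fin.isLt _), map_mul, Equiv.Perm.mul_apply]
  · rw [pt_of_ge _ h, pt_of_ge y h, pt_of_ge x h]

theorem pt_inv_cancel (x : Cfsg.Spor.Fi23) (p : ℕ) : pt x⁻¹ (pt x p) = p := by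
  rw [← pt_mul, inv_mul_cancel, pt_one]

theorem pt_cancel_inv (x : Cfsg.Spor.Fi23) (p : ℕ) : pt x (pt x⁻¹ p) = p := by
  rw [← pt_mul, mul_inv_cancel, pt_one]

theorem pt_wv (l : List ℕ) (hl : ∀ a ∈ l, a < 10) {b : ℕ} (hb : b < 31671) :
    pt (wv l) b = walkA C1689.T l b := by
  rw [pt_of_lt _ hb]
  exact C1689.cert.perm_list l (fun a ha => by rw [jc_eq]; exact hl a ha) ⟨b, hb⟩

theorem pt_gv (k : ℕ) (hk : k < 10) {p : ℕ} (hp : p < 31671) : pt (gv k) p = C1689.T k p := by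
  rw [pt_of_lt _ hp]
  exact C1689.cert.perm_val k (by rw [jc_eq]; exact hk) ⟨p, hp⟩

theorem ov2_zero : F23L.ov2 0 = 1 := by decide +kernel
theorem ov3_zero : F23L.ov3 0 = 224 := by decide +kernel
theorem ov4_zero : F23L.ov4 0 = 1640 := by decide +kernel
theorem ov5_zero : F23L.ov5 0 = 2 := by decide +kernel

theorem mem_fixSub_of_pt (x : Cfsg.Spor.Fi23) (bs : List ℕ) (h : ∀ b ∈ bs, pt x b = b) :
    x ∈ fixSub C1689.cert.perm bs := by
  intro b hb i hi
  apply Fin.ext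
  have hp := pt_of_lt x i.2
  rw [← hp, hi]
  exact h b hb

theorem pt_of_mem_fixSub {x : Cfsg.Spor.Fi23} {bs : List ℕ} (h : x ∈ fixSub C1689.cert.perm bs)
    {b : ℕ} (hb : b ∈ bs) (hlt : b < 31671) : pt x b = b := by
  rw [pt_of_lt x hlt]
  exact congrArg Fin.val (h b hb ⟨b, hlt⟩ rfl)

/-! ### the chain -/

theorem cards :
    Nat.card (fixSub C1689.cert.perm [0]) = 28160 * 21840 * 7776 * 27 ∧
    Nat.card (fixSub C1689.cert.perm [F23L.ov2 0, 0]) = 21840 * 7776 * 27 ∧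
    Nat.card (fixSub C1689.cert.perm [F23L.ov3 0, F23L.ov2 0, 0]) = 7776 * 27 ∧
    Nat.card (fixSub C1689.cert.perm [F23L.ov4 0, F23L.ov3 0, F23L.ov2 0, 0]) = 27 ∧
    Nat.card (fixSub C1689.cert.perm [F23L.ov5 0, F23L.ov4 0, F23L.ov3 0, F23L.ov2 0, 0]) = 1 := by
  have := F23.finite
  have h1 := C1689.cert.lb_top
  rw [F23.card_eq] at h1
  have h2 := C1689.cert.lb_level [0] F23L.W2 28160 F23L.ov2 F23L.op2 F23L.otp2 F23L.otw2
    F23L.fix2 F23L.lb2_all
  have h3 := C1689.cert.lb_level [F23L.ov2 0, 0] F23L.W3 21840 F23L.ov3 F23L.op3 F23L.otp3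
    F23L.otw3 F23L.fix3 F23L.lb3_all
  have h4 := C1689.cert.lb_level [F23L.ov3 0, F23L.ov2 0, 0] F23L.W4 7776 F23L.ov4 F23L.op4
    F23L.otp4 F23L.otw4 F23L.fix4 F23L.lb4_all
  have h5 := C1689.cert.lb_level [F23L.ov4 0, F23L.ov3 0, F23L.ov2 0, 0] F23L.W5 27 F23L.ov5
    F23L.op5 F23L.otp5 F23L.otw5 F23L.fix5 F23L.lb5_all
  have h6 : 0 < Nat.card (fixSub C1689.cert.perm
      [F23L.ov5 0, F23L.ov4 0, F23L.ov3 0, F23L.ov2 0, 0]) := Nat.card_pos
  omega

theorem beq_zero_false {q : ℕ} (h : q ≠ 0) : Nat.beq q 0 = false := by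
  cases hb : Nat.beq q 0 with
  | false => rfl
  | true => exact absurd (Nat.eq_of_beq_eq_true hb) h

/-- the facts checked by `fixChk` and `lbPt` -/
theorem lb_facts (bs : List ℕ) (W : List (List ℕ)) (m : ℕ) (ov op otp otw : ℕ → ℕ)
    (hW : Cfsg.Agent.Helper28.fixChk C1689.T C1689.D.jc W bs = true)
    (hO : ∀ t, t < m → lbPt C1689.T 31671 W ov op otp otw t = true) :
    (∀ t, t < m → ov t < 31671 ∧ op (ov t) = t) ∧
    (∀ t, 0 < t → t < m → otp t < t ∧ walkA C1689.T (nthL W (otw t)) (ov (otp t)) = ov t) ∧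
    (∀ i, (∀ a ∈ nthL W i, a < 10) ∧ ∀ b ∈ bs, walkA C1689.T (nthL W i) b = b) := by
  refine ⟨?_, ?_, ?_⟩
  · intro t ht
    have := hO t ht
    unfold lbPt at this
    simp only [Bool.and_eq_true] at this
    exact ⟨Nat.blt_eq.mp this.1, Nat.eq_of_beq_eq_true this.2.1⟩
  · intro t ht0 ht
    have := hO t ht
    unfold lbPt at this
    simp only [Bool.and_eq_true] at this
    have h4 := this.2.2
    rw [beq_zero_false (Nat.pos_iff_ne_zero.mp ht0)] at h4
    simp only [cond_false, Bool.and_eq_true] at h4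
    exact ⟨Nat.blt_eq.mp h4.1, Nat.eq_of_beq_eq_true h4.2⟩
  · intro i
    rcases nthL_mem_or W i with hnil | hmem
    · rw [hnil]
      exact ⟨fun a ha => absurd ha (by simp), fun b _ => rfl⟩
    · have := (listAll_iff _ _).mp hW _ hmem
      rw [Bool.and_eq_true] at this
      exact ⟨fun a ha => by
          have := Nat.blt_eq.mp ((listAll_iff _ _).mp this.1 a ha)
          rwa [jc_eq] at this,
        fun b hb => Nat.eq_of_beq_eq_true ((listAll_iff _ _).mp this.2 b hb)⟩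

theorem lvl (bs : List ℕ) (hbs : ∀ b ∈ bs, b < 31671) (W : List (List ℕ)) (m : ℕ)
    (ov op otp otw : ℕ → ℕ)
    (hW : Cfsg.Agent.Helper28.fixChk C1689.T C1689.D.jc W bs = true)
    (hO : ∀ t, t < m → lbPt C1689.T 31671 W ov op otp otw t = true) :
    ∀ t, t < m → ∃ x ∈ fixSub C1689.cert.perm bs, pt x (ov 0) = ov t := by
  obtain ⟨h1, h3, hWl⟩ := lb_facts bs W m ov op otp otw hW hO
  intro t
  induction t using Nat.strong_induction_on with
  | _ t ih =>
    intro hlt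
    by_cases h0 : t = 0
    · subst h0
      exact ⟨1, Subgroup.one_mem _, pt_one _⟩
    · obtain ⟨hpar, hwalk⟩ := h3 t (Nat.pos_of_ne_zero h0) hlt
      obtain ⟨x', hx', f3⟩ := ih (otp t) hpar (by omega)
      obtain ⟨hlet, hfixb⟩ := hWl (otw t)
      have hmem : wv (nthL W (otw t)) ∈ fixSub C1689.cert.perm bs := by
        apply mem_fixSub_of_pt
        intro b hb
        rw [pt_wv _ hlet (hbs b hb)]
        exact hfixb b hb
      refine ⟨wv (nthL W (otw t)) * x', Subgroup.mul_mem _ hmem hx', ?_⟩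
      rw [pt_mul, f3, pt_wv _ hlet (h1 _ (by omega)).1, hwalk]

/-- The orbit of the point `ov 0` under the stabiliser of `bs` is the list `ov`, when the order
of the stabiliser is small enough. -/
theorem orbit_exact (bs : List ℕ) (hbs : ∀ b ∈ bs, b < 31671) (W : List (List ℕ)) (m : ℕ)
    (ov op otp otw : ℕ → ℕ)
    (hW : Cfsg.Agent.Helper28.fixChk C1689.T C1689.D.jc W bs = true)
    (hO : ∀ t, t < m → lbPt C1689.T 31671 W ov op otp otw t = true) (hm : 0 < m)
    (hcard : Nat.card (fixSub C1689.cert.perm bs) <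
      (m + 1) * Nat.card (fixSub C1689.cert.perm (ov 0 :: bs)))
    (n : Cfsg.Spor.Fi23) (hn : n ∈ fixSub C1689.cert.perm bs) :
    ∃ t, t < m ∧ pt n (ov 0) = ov t := by
  have := F23.finite
  obtain ⟨h1, _, _⟩ := lb_facts bs W m ov op otp otw hW hO
  by_contra hne0
  have hne : ∀ t, t < m → pt n (ov 0) ≠ ov t := fun t ht h => hne0 ⟨t, ht, h⟩
  have hx : ∀ t, ∃ x : Cfsg.Spor.Fi23, x ∈ fixSub C1689.cert.perm bs ∧
      (t < m → pt x (ov 0) = ov t) ∧ (¬ t < m → x = n) := by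
    intro t
    by_cases ht : t < m
    · obtain ⟨x, hx, e⟩ := lvl bs hbs W m ov op otp otw hW hO t ht
      exact ⟨x, hx, fun _ => e, fun h => absurd ht h⟩
    · exact ⟨n, hn, fun h => absurd h ht, fun _ => rfl⟩
  choose r hr1 hr2 hr3 using hx
  have h0lt : ov 0 < 31671 := (h1 0 hm).1
  have key := lb_step (fixSub C1689.cert.perm bs) (fixSub C1689.cert.perm (ov 0 :: bs)) (m + 1) r
    (fun t _ => hr1 t) (fixSub_cons_le _ _ _) (by
      intro s t hs ht hmem
      have e := pt_of_mem_fixSub hmem (List.mem_cons_self) h0lt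
      rw [pt_mul] at e
      have e2 : pt (r t) (ov 0) = pt (r s) (ov 0) := by
        have := congrArg (pt (r s)) e
        rwa [pt_cancel_inv] at this
      by_cases hs' : s < m
      · by_cases ht' : t < m
        · rw [hr2 s hs', hr2 t ht'] at e2
          rw [← (h1 s hs').2, ← (h1 t ht').2, e2]
        · rw [hr3 t ht', hr2 s hs'] at e2
          exact absurd e2 (hne s hs')
      · by_cases ht' : t < m
        · rw [hr3 s hs', hr2 t ht'] at e2
          exact absurd e2.symm (hne t ht')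
        · omega)
  omega

theorem bs1_lt : ∀ b ∈ [0], b < 31671 := by
  intro b hb
  rw [List.mem_singleton] at hb
  rw [hb]; norm_num

theorem bs2_lt : ∀ b ∈ [F23L.ov2 0, 0], b < 31671 := by
  intro b hb
  rw [ov2_zero] at hb
  simp only [List.mem_cons, List.not_mem_nil, or_false] at hb
  rcases hb with rfl | rfl <;> norm_num

theorem bs3_lt : ∀ b ∈ [F23L.ov3 0, F23L.ov2 0, 0], b < 31671 := by
  intro b hb
  rw [ov3_zero, ov2_zero] at hb
  simp only [List.mem_cons, List.not_mem_nil, or_false] at hb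
  rcases hb with rfl | rfl | rfl <;> norm_num

theorem bs4_lt : ∀ b ∈ [F23L.ov4 0, F23L.ov3 0, F23L.ov2 0, 0], b < 31671 := by
  intro b hb
  rw [ov4_zero, ov3_zero, ov2_zero] at hb
  simp only [List.mem_cons, List.not_mem_nil, or_false] at hb
  rcases hb with rfl | rfl | rfl | rfl <;> norm_num

theorem mem1 (n : Cfsg.Spor.Fi23) (h0 : pt n 0 = 0) : n ∈ fixSub C1689.cert.perm [0] := by
  apply mem_fixSub_of_pt
  intro b hb
  rw [List.mem_singleton] at hb
  rw [hb]; exact h0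

theorem mem2 (n : Cfsg.Spor.Fi23) (h0 : pt n 0 = 0) (h1 : pt n 1 = 1) :
    n ∈ fixSub C1689.cert.perm [F23L.ov2 0, 0] := by
  apply mem_fixSub_of_pt
  intro b hb
  rw [ov2_zero] at hb
  simp only [List.mem_cons, List.not_mem_nil, or_false] at hb
  rcases hb with rfl | rfl
  · exact h1
  · exact h0

theorem mem3 (n : Cfsg.Spor.Fi23) (h0 : pt n 0 = 0) (h1 : pt n 1 = 1) (h2 : pt n 224 = 224) :
    n ∈ fixSub C1689.cert.perm [F23L.ov3 0, F23L.ov2 0, 0] := by
  apply mem_fixSub_of_pt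
  intro b hb
  rw [ov3_zero, ov2_zero] at hb
  simp only [List.mem_cons, List.not_mem_nil, or_false] at hb
  rcases hb with rfl | rfl | rfl
  · exact h2
  · exact h1
  · exact h0

theorem mem4 (n : Cfsg.Spor.Fi23) (h0 : pt n 0 = 0) (h1 : pt n 1 = 1) (h2 : pt n 224 = 224)
    (h3 : pt n 1640 = 1640) :
    n ∈ fixSub C1689.cert.perm [F23L.ov4 0, F23L.ov3 0, F23L.ov2 0, 0] := by
  apply mem_fixSub_of_pt
  intro b hb
  rw [ov4_zero, ov3_zero, ov2_zero] at hb
  simp only [List.mem_cons, List.not_mem_nil, or_false] at hb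
  rcases hb with rfl | rfl | rfl | rfl
  · exact h3
  · exact h2
  · exact h1
  · exact h0

theorem orb2 (n : Cfsg.Spor.Fi23) (h0 : pt n 0 = 0) : ∃ t, t < 28160 ∧ pt n 1 = F23L.ov2 t := by
  have h := orbit_exact [0] bs1_lt
    F23L.W2 28160 F23L.ov2 F23L.op2 F23L.otp2 F23L.otw2 F23L.fix2 F23L.lb2_all (by norm_num) (by
      rw [cards.1, cards.2.1]; norm_num) n (mem1 n h0)
  rw [ov2_zero] at h
  exact h

theorem orb3 (n : Cfsg.Spor.Fi23) (h0 : pt n 0 = 0) (h1 : pt n 1 = 1) :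
    ∃ t, t < 21840 ∧ pt n 224 = F23L.ov3 t := by
  have h := orbit_exact [F23L.ov2 0, 0] bs2_lt
    F23L.W3 21840 F23L.ov3 F23L.op3 F23L.otp3 F23L.otw3 F23L.fix3 F23L.lb3_all (by norm_num) (by
      rw [cards.2.1, cards.2.2.1]; norm_num) n (mem2 n h0 h1)
  rw [ov3_zero] at h
  exact h

theorem orb4 (n : Cfsg.Spor.Fi23) (h0 : pt n 0 = 0) (h1 : pt n 1 = 1) (h2 : pt n 224 = 224) :
    ∃ t, t < 7776 ∧ pt n 1640 = F23L.ov4 t := by
  have h := orbit_exact [F23L.ov3 0, F23L.ov2 0, 0] bs3_lt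
    F23L.W4 7776 F23L.ov4 F23L.op4 F23L.otp4 F23L.otw4 F23L.fix4 F23L.lb4_all (by norm_num) (by
      rw [cards.2.2.1, cards.2.2.2.1]; norm_num) n (mem3 n h0 h1 h2)
  rw [ov4_zero] at h
  exact h

/-- the position tables invert the orbit lists -/
theorem op2_ov2 (t : ℕ) (ht : t < 28160) : F23L.op2 (F23L.ov2 t) = t :=
  ((lb_facts [0] F23L.W2 28160 F23L.ov2 F23L.op2 F23L.otp2 F23L.otw2 F23L.fix2 F23L.lb2_all).1
    t ht).2

theorem op3_ov3 (t : ℕ) (ht : t < 21840) : F23L.op3 (F23L.ov3 t) = t :=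
  ((lb_facts [F23L.ov2 0, 0] F23L.W3 21840 F23L.ov3 F23L.op3 F23L.otp3 F23L.otw3 F23L.fix3
    F23L.lb3_all).1 t ht).2

theorem op4_ov4 (t : ℕ) (ht : t < 7776) : F23L.op4 (F23L.ov4 t) = t :=
  ((lb_facts [F23L.ov3 0, F23L.ov2 0, 0] F23L.W4 7776 F23L.ov4 F23L.op4 F23L.otp4 F23L.otw4
    F23L.fix4 F23L.lb4_all).1 t ht).2

/-! ### fifth base points -/

/-- `b5` is a fifth base point: together with the first four base points it is fixed by the
identity only, and its orbit under the stabiliser of the first four is the list `ovf`. -/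
structure Fifth (b5 : ℕ) (ovf opf : ℕ → ℕ) : Prop where
  lt : b5 < 31671
  one : ∀ x : Cfsg.Spor.Fi23, pt x 0 = 0 → pt x 1 = 1 → pt x 224 = 224 → pt x 1640 = 1640 →
    pt x b5 = b5 → x = 1
  orb : ∀ n : Cfsg.Spor.Fi23, pt n 0 = 0 → pt n 1 = 1 → pt n 224 = 224 → pt n 1640 = 1640 →
    ∃ t, t < 27 ∧ pt n b5 = ovf t
  opov : ∀ t, t < 27 → opf (ovf t) = t

/-- An orbit of the right length under the stabiliser of the first four base points gives a
fifth base point. -/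
theorem fifth_of_lb (ov op otp otw : ℕ → ℕ)
    (hO : ∀ t, t < 27 → lbPt C1689.T 31671 F23L.W5 ov op otp otw t = true) :
    Fifth (ov 0) ov op := by
  have := F23.finite
  have hf := lb_facts [F23L.ov4 0, F23L.ov3 0, F23L.ov2 0, 0] F23L.W5 27 ov op otp otw F23L.fix5 hO
  have h5 := C1689.cert.lb_level [F23L.ov4 0, F23L.ov3 0, F23L.ov2 0, 0] F23L.W5 27 ov op otp otw
    F23L.fix5 hO
  rw [cards.2.2.2.1] at h5
  have hpos : 0 < Nat.card (fixSub C1689.cert.perm
      (ov 0 :: [F23L.ov4 0, F23L.ov3 0, F23L.ov2 0, 0])) := Nat.card_pos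
  have hlt : ov 0 < 31671 := (hf.1 0 (by norm_num)).1
  refine ⟨hlt, ?_, ?_, fun t ht => (hf.1 t ht).2⟩
  · intro x h0 h1 h2 h3 h4
    have hbot : fixSub C1689.cert.perm (ov 0 :: [F23L.ov4 0, F23L.ov3 0, F23L.ov2 0, 0]) = ⊥ := by
      apply Subgroup.eq_bot_of_card_le
      omega
    have hmem : x ∈ fixSub C1689.cert.perm (ov 0 :: [F23L.ov4 0, F23L.ov3 0, F23L.ov2 0, 0]) := by
      apply mem_fixSub_of_pt
      intro b hb
      rcases List.mem_cons.mp hb with rfl | hb'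
      · exact h4
      · exact pt_of_mem_fixSub (mem4 x h0 h1 h2 h3) hb' (bs4_lt b hb')
    rw [hbot] at hmem
    exact Subgroup.mem_bot.mp hmem
  · intro n h0 h1 h2 h3
    exact orbit_exact [F23L.ov4 0, F23L.ov3 0, F23L.ov2 0, 0] bs4_lt F23L.W5 27 ov op otp otw
      F23L.fix5 hO (by norm_num) (by rw [cards.2.2.2.1]; omega) n (mem4 n h0 h1 h2 h3)

/-- the fifth base point of the chain of helper28 -/
theorem fifth_std : Fifth 2 F23L.ov5 F23L.op5 := by
  have h := fifth_of_lb F23L.ov5 F23L.op5 F23L.otp5 F23L.otw5 F23L.lb5_all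
  rw [ov5_zero] at h
  exact h

theorem eq_of_base {b5 : ℕ} {ovf opf : ℕ → ℕ} (F : Fifth b5 ovf opf) (x y : Cfsg.Spor.Fi23)
    (h0 : pt x 0 = pt y 0) (h1 : pt x 1 = pt y 1) (h2 : pt x 224 = pt y 224)
    (h3 : pt x 1640 = pt y 1640) (h4 : pt x b5 = pt y b5) : x = y := by
  have h : y⁻¹ * x = 1 := by
    apply F.one
    · rw [pt_mul, h0, pt_inv_cancel]
    · rw [pt_mul, h1, pt_inv_cancel]
    · rw [pt_mul, h2, pt_inv_cancel]
    · rw [pt_mul, h3, pt_inv_cancel]
    · rw [pt_mul, h4, pt_inv_cancel]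
  exact (inv_mul_eq_one.mp h).symm

end Cfsg.Agent.Helper56.Fi23Out
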