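/-
Helper56 library: the letters for the elements of `Fi23`: the generators and the longer
generators of the stabiliser chain, each with a packed permutation table on the 31671 points.
A table is a list of lists of chunks, a chunk holding 64 entries of 15 bits.
-/
import Cfsg.Agent.Helper56.Fi23.Base
import Cfsg.Agent.Helper56.Fi23.LData
import Cfsg.Agent.Helper56.Fi.Common

set_option autoImplicit false

namespace Cfsg.Agent.Helper56.Fi23Out

open Cfsg.Agent.Helper28 Cfsg.Agent.Helper56.FiOut

/-- the member number `i` of a list of tables, or the empty table -/
noncomputable def nthT (l : List (List (List ℕ))) : ℕ → List (List ℕ) :=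
  List.rec (motive := fun _ => ℕ → List (List ℕ)) (fun _ => [])
    (fun a _ ih i => Nat.rec (motive := fun _ => List (List ℕ)) a (fun j _ => ih j) i) l

/-- entry `i` of a packed table; the numbers of the chunk are evaluated first -/
noncomputable def tabAt (N : List (List ℕ)) (i : ℕ) : ℕ :=
  natLetN (Nat.shiftRight i 11) fun c1 => natLetN (Nat.land (Nat.shiftRight i 6) 31) fun c2 =>
    Nat.land (Nat.shiftRight (nthN (nthL N c1) c2) (Nat.mul 15 (Nat.land i 63))) 32767

/-- the table of the letter `k`; the letter is evaluated first -/
noncomputable def TQ (k i : ℕ) : ℕ :=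
  natLetN k fun k1 => cond (Nat.blt k1 20) (tabAt (nthT LT k1) i) i

theorem TQ_eq (k i : ℕ) : TQ k i = cond (Nat.blt k 20) (tabAt (nthT LT k) i) i := by
  unfold TQ
  rw [natLetN_eq]

/-- the value of the letter `k` -/
noncomputable def lval (k : ℕ) : Cfsg.Spor.Fi23 := wv (nthL LW k)

/-- check of the table of a letter at a point: a generator against the table of helper28, a
longer letter with an even number against the tables of the generators, a longer letter with an
odd number as the inverse of the letter before it -/
noncomputable def letTabChk (k i : ℕ) : Bool :=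
  Nat.ble 31671 i || cond (Nat.blt k 10) (Nat.beq (C1689.T k i) (tabAt (nthT LT k) i))
    (cond (Nat.beq (Nat.land k 1) 0)
      (Nat.beq (walkA TQ (nthL LW k) i) (tabAt (nthT LT k) i))
      (natLetB (tabAt (nthT LT k) i) fun j =>
        Nat.blt j 31671 && Nat.beq (tabAt (nthT LT (Nat.pred k)) j) i))

end Cfsg.Agent.Helper56.Fi23Out
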