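/-
Helper56 library: kernel checks of the permutation tables of the letters of `Fi23` (part 0).
-/
import Cfsg.Agent.Helper56.Fi23.LetDefs

set_option autoImplicit false

namespace Cfsg.Agent.Helper56.Fi23Out

open Cfsg.Agent.Helper28 Cfsg.Agent.Helper56.FiOut

theorem let_0 : rgAll (letTabChk 0) 15 (2 ^ 15 * 0) = true := by decide +kernel
theorem let_1 : rgAll (letTabChk 1) 15 (2 ^ 15 * 0) = true := by decide +kernel
theorem let_2 : rgAll (letTabChk 2) 15 (2 ^ 15 * 0) = true := by decide +kernel
theorem let_3 : rgAll (letTabChk 3) 15 (2 ^ 15 * 0) = true := by decide +kernel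
theorem let_4 : rgAll (letTabChk 4) 15 (2 ^ 15 * 0) = true := by decide +kernel
theorem let_5 : rgAll (letTabChk 5) 15 (2 ^ 15 * 0) = true := by decide +kernel
theorem let_6 : rgAll (letTabChk 6) 15 (2 ^ 15 * 0) = true := by decide +kernel
theorem let_7 : rgAll (letTabChk 7) 15 (2 ^ 15 * 0) = true := by decide +kernel
theorem let_8 : rgAll (letTabChk 8) 15 (2 ^ 15 * 0) = true := by decide +kernel
theorem let_9 : rgAll (letTabChk 9) 15 (2 ^ 15 * 0) = true := by decide +kernel
theorem let_11 : rgAll (letTabChk 11) 15 (2 ^ 15 * 0) = true := by decide +kernel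
theorem let_13 : rgAll (letTabChk 13) 15 (2 ^ 15 * 0) = true := by decide +kernel
theorem let_15 : rgAll (letTabChk 15) 15 (2 ^ 15 * 0) = true := by decide +kernel
theorem let_17 : rgAll (letTabChk 17) 15 (2 ^ 15 * 0) = true := by decide +kernel
theorem let_19 : rgAll (letTabChk 19) 15 (2 ^ 15 * 0) = true := by decide +kernel
theorem let_10_0 : rgAll (letTabChk 10) 12 (2 ^ 12 * 0) = true := by decide +kernel
theorem let_10_1 : rgAll (letTabChk 10) 12 (2 ^ 12 * 1) = true := by decide +kernel
theorem let_10_2 : rgAll (letTabChk 10) 12 (2 ^ 12 * 2) = true := by decide +kernel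
theorem let_10_3 : rgAll (letTabChk 10) 12 (2 ^ 12 * 3) = true := by decide +kernel
theorem let_10_4 : rgAll (letTabChk 10) 12 (2 ^ 12 * 4) = true := by decide +kernel
theorem let_10_5 : rgAll (letTabChk 10) 12 (2 ^ 12 * 5) = true := by decide +kernel
theorem let_10_6 : rgAll (letTabChk 10) 12 (2 ^ 12 * 6) = true := by decide +kernel
theorem let_10_7 : rgAll (letTabChk 10) 12 (2 ^ 12 * 7) = true := by decide +kernel

theorem let_10_all : ∀ b, b < 8 → rgAll (letTabChk 10) 12 (2 ^ 12 * b) = true := by
  intro b hb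
  interval_cases b
  · exact let_10_0
  · exact let_10_1
  · exact let_10_2
  · exact let_10_3
  · exact let_10_4
  · exact let_10_5
  · exact let_10_6
  · exact let_10_7

theorem let_12_0 : rgAll (letTabChk 12) 12 (2 ^ 12 * 0) = true := by decide +kernel
theorem let_12_1 : rgAll (letTabChk 12) 12 (2 ^ 12 * 1) = true := by decide +kernel
theorem let_12_2 : rgAll (letTabChk 12) 12 (2 ^ 12 * 2) = true := by decide +kernel
theorem let_12_3 : rgAll (letTabChk 12) 12 (2 ^ 12 * 3) = true := by decide +kernel
theorem let_12_4 : rgAll (letTabChk 12) 12 (2 ^ 12 * 4) = true := by decide +kernel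
theorem let_12_5 : rgAll (letTabChk 12) 12 (2 ^ 12 * 5) = true := by decide +kernel
theorem let_12_6 : rgAll (letTabChk 12) 12 (2 ^ 12 * 6) = true := by decide +kernel
theorem let_12_7 : rgAll (letTabChk 12) 12 (2 ^ 12 * 7) = true := by decide +kernel

theorem let_12_all : ∀ b, b < 8 → rgAll (letTabChk 12) 12 (2 ^ 12 * b) = true := by
  intro b hb
  interval_cases b
  · exact let_12_0
  · exact let_12_1
  · exact let_12_2
  · exact let_12_3
  · exact let_12_4
  · exact let_12_5
  · exact let_12_6
  · exact let_12_7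


end Cfsg.Agent.Helper56.Fi23Out
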