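/-
Helper56 library: kernel checks of the permutation tables of the letters of `Fi23` (part 3).
-/
import Cfsg.Agent.Helper56.Fi23.LetDefs

set_option autoImplicit false

namespace Cfsg.Agent.Helper56.Fi23Out

open Cfsg.Agent.Helper28 Cfsg.Agent.Helper56.FiOut

theorem let_18_0 : rgAll (letTabChk 18) 12 (2 ^ 12 * 0) = true := by decide +kernel
theorem let_18_1 : rgAll (letTabChk 18) 12 (2 ^ 12 * 1) = true := by decide +kernel
theorem let_18_2 : rgAll (letTabChk 18) 12 (2 ^ 12 * 2) = true := by decide +kernel
theorem let_18_3 : rgAll (letTabChk 18) 12 (2 ^ 12 * 3) = true := by decide +kernel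
theorem let_18_4 : rgAll (letTabChk 18) 12 (2 ^ 12 * 4) = true := by decide +kernel
theorem let_18_5 : rgAll (letTabChk 18) 12 (2 ^ 12 * 5) = true := by decide +kernel
theorem let_18_6 : rgAll (letTabChk 18) 12 (2 ^ 12 * 6) = true := by decide +kernel
theorem let_18_7 : rgAll (letTabChk 18) 12 (2 ^ 12 * 7) = true := by decide +kernel

theorem let_18_all : ∀ b, b < 8 → rgAll (letTabChk 18) 12 (2 ^ 12 * b) = true := by
  intro b hb
  interval_cases b
  · exact let_18_0
  · exact let_18_1
  · exact let_18_2
  · exact let_18_3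
  · exact let_18_4
  · exact let_18_5
  · exact let_18_6
  · exact let_18_7


end Cfsg.Agent.Helper56.Fi23Out
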