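/-
Helper56 library: kernel checks of the permutation tables of the letters of `Fi23`.
-/
import Cfsg.Agent.Helper56.Fi23.ChkLet0
import Cfsg.Agent.Helper56.Fi23.ChkLet1
import Cfsg.Agent.Helper56.Fi23.ChkLet2
import Cfsg.Agent.Helper56.Fi23.ChkLet3

set_option autoImplicit false

namespace Cfsg.Agent.Helper56.Fi23Out

open Cfsg.Agent.Helper28 Cfsg.Agent.Helper56.FiOut

theorem letTab_all (k : ℕ) (hk : k < 20) (i : ℕ) (hi : i < 31671) : letTabChk k i = true := by
  interval_cases k
  · exact rgAll_spec _ _ _ let_0 i (by omega) (by norm_num; omega)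
  · exact rgAll_spec _ _ _ let_1 i (by omega) (by norm_num; omega)
  · exact rgAll_spec _ _ _ let_2 i (by omega) (by norm_num; omega)
  · exact rgAll_spec _ _ _ let_3 i (by omega) (by norm_num; omega)
  · exact rgAll_spec _ _ _ let_4 i (by omega) (by norm_num; omega)
  · exact rgAll_spec _ _ _ let_5 i (by omega) (by norm_num; omega)
  · exact rgAll_spec _ _ _ let_6 i (by omega) (by norm_num; omega)
  · exact rgAll_spec _ _ _ let_7 i (by omega) (by norm_num; omega)
  · exact rgAll_spec _ _ _ let_8 i (by omega) (by norm_num; omega)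
  · exact rgAll_spec _ _ _ let_9 i (by omega) (by norm_num; omega)
  · exact rg_cover _ 12 8 let_10_all i (by norm_num; omega)
  · exact rgAll_spec _ _ _ let_11 i (by omega) (by norm_num; omega)
  · exact rg_cover _ 12 8 let_12_all i (by norm_num; omega)
  · exact rgAll_spec _ _ _ let_13 i (by omega) (by norm_num; omega)
  · exact rg_cover _ 12 8 let_14_all i (by norm_num; omega)
  · exact rgAll_spec _ _ _ let_15 i (by omega) (by norm_num; omega)
  · exact rg_cover _ 12 8 let_16_all i (by norm_num; omega)
  · exact rgAll_spec _ _ _ let_17 i (by omega) (by norm_num; omega)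
  · exact rg_cover _ 12 8 let_18_all i (by norm_num; omega)
  · exact rgAll_spec _ _ _ let_19 i (by omega) (by norm_num; omega)

end Cfsg.Agent.Helper56.Fi23Out
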