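/-
Helper56 library: the kernel checks on the data for the outer automorphism group of `Fi23`.
-/
import Cfsg.Agent.Helper56.Fi23.Cand
import Cfsg.Agent.Helper56.Fi23.Data

set_option autoImplicit false

namespace Cfsg.Agent.Helper56.Fi23Out

open Cfsg.Agent.Helper28 Cfsg.Agent.Helper56.FiOut

/-- the table `N` is the permutation of the packed word `W` -/
noncomputable def tabChk (W : ℕ) (N : List (List ℕ)) (i : ℕ) : Bool := Nat.ble 31671 i || Nat.beq (wq W i) (tabAt N i)

/-- the table `TA2` is the square of the table `TA` -/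
noncomputable def sqChk (i : ℕ) : Bool :=
  Nat.ble 31671 i || Nat.beq (tabAt TA2 i) (tabAt TA (tabAt TA i))

/-- the table `TTJ` is the `3`-th power of the table `TT` -/
noncomputable def powChk (i : ℕ) : Bool :=
  Nat.ble 31671 i || Nat.beq (tabAt TTJ i) (iterT TT 3 i)

theorem pt_pow_iterF {g : Cfsg.Spor.Fi23} {f : ℕ → ℕ} (hf : ∀ i, i < 31671 → pt g i = f i)
    (e : ℕ) {z : ℕ} (hz : z < 31671) : pt (g ^ e) z = iterF f e z := by
  induction e with
  | zero => rw [pow_zero, pt_one]; rfl
  | succ e ih =>
    have hlt : iterF f e z < 31671 := by rw [← ih]; exact pt_lt _ hz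
    rw [pow_succ', pt_mul, ih, hf _ hlt, iterF_succ]

/-- a property of the five base points -/
noncomputable def base5 (p : ℕ → Bool) : Bool := p 0 && (p 1 && (p 224 && (p 1640 && p 2)))

theorem base5_spec (p : ℕ → Bool) (h : base5 p = true) :
    p 0 = true ∧ p 1 = true ∧ p 224 = true ∧ p 1640 = true ∧ p 2 = true := by
  unfold base5 at h
  simp only [Bool.and_eq_true] at h
  exact h

/-- the word number `k` of `LA` is the `k`-th power of `a` -/
noncomputable def laChk (k : ℕ) : Bool :=
  Nat.ble 17 k || natLetB (nthN LA k) fun H => base5 fun b => Nat.beq (wq H b) (iterT TA k b)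

/-- the conjugator number `idx` of `t` is `x`, or fails one of the two relations of `x` at a
point -/
noncomputable def hexChk (idx : ℕ) : Bool :=
  Nat.ble 32 idx || natLetB (nthN LX idx) fun H => natLetB (nthN hexD idx) fun d =>
    cond (Nat.beq d 0) (Nat.beq H WX)
      (natLetB (Nat.shiftRight d 2) fun z => Nat.blt z 31671 &&
        cond (Nat.beq (Nat.land d 3) 1)
          (!(Nat.beq (iterF (fun i => tabAt TA (wq H i)) 26 z) z))
          (!(Nat.beq (iterF (fun i => tabAt TA2 (wq H i)) 28 z) z)))

/-- the tables of `a`, `t`, `x` -/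
noncomputable def tab3 (c i : ℕ) : ℕ := tabAt (nthT [TA, TT, TX] c) i

/-- the generator `k` is the value of its word in `a`, `t`, `x` -/
noncomputable def genChk (k : ℕ) : Bool :=
  Nat.ble 10 k || (letChk 3 (nthL genSW k) &&
    base5 fun b => Nat.beq (C1689.T k b) (walkA tab3 (nthL genSW k) b))

/-- the orbit of the fifth base point used for `t` -/
noncomputable def ovT (t : ℕ) : ℕ := nthN OVT t
/-- the positions in the orbit of the fifth base point used for `t` -/
noncomputable def opT (z : ℕ) : ℕ := posN OVT z
noncomputable def otpT (t : ℕ) : ℕ := nthN OTPT t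
noncomputable def otwT (t : ℕ) : ℕ := nthN OTWT t

/-- the check of the orbit of the fifth base point used for `t` -/
noncomputable def lbTChk (t : ℕ) : Bool :=
  Nat.ble 27 t || lbPt C1689.T 31671 F23L.W5 ovT opT otpT otwT t

end Cfsg.Agent.Helper56.Fi23Out
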