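/-
Helper56 library: kernel-checked certificates for the outer automorphism group of `Fi23` (the centraliser of a).
-/
import Cfsg.Agent.Helper56.Fi23.ChkDefs
import Cfsg.Agent.Helper56.Fi23.DataA

set_option autoImplicit false

namespace Cfsg.Agent.Helper56.Fi23Out

open Cfsg.Agent.Helper28 Cfsg.Agent.Helper56.FiOut

theorem scanA_0 : rgAll (candAll TA TA F23L.ov5 F23L.op5 10 43 15264 8629 11034 0 1 5 8 11 17 LA certA) 10 (2 ^ 10 * 0) = true := by decide +kernel
theorem scanA_1 : rgAll (candAll TA TA F23L.ov5 F23L.op5 10 43 15264 8629 11034 0 1 5 8 11 17 LA certA) 10 (2 ^ 10 * 1) = true := by decide +kernel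
theorem scanA_2 : rgAll (candAll TA TA F23L.ov5 F23L.op5 10 43 15264 8629 11034 0 1 5 8 11 17 LA certA) 10 (2 ^ 10 * 2) = true := by decide +kernel
theorem scanA_3 : rgAll (candAll TA TA F23L.ov5 F23L.op5 10 43 15264 8629 11034 0 1 5 8 11 17 LA certA) 10 (2 ^ 10 * 3) = true := by decide +kernel
theorem scanA_4 : rgAll (candAll TA TA F23L.ov5 F23L.op5 10 43 15264 8629 11034 0 1 5 8 11 17 LA certA) 10 (2 ^ 10 * 4) = true := by decide +kernel
theorem scanA_5 : rgAll (candAll TA TA F23L.ov5 F23L.op5 10 43 15264 8629 11034 0 1 5 8 11 17 LA certA) 10 (2 ^ 10 * 5) = true := by decide +kernel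
theorem scanA_6 : rgAll (candAll TA TA F23L.ov5 F23L.op5 10 43 15264 8629 11034 0 1 5 8 11 17 LA certA) 10 (2 ^ 10 * 6) = true := by decide +kernel

theorem scanA_cover_0 : ∀ b, 0 ≤ b → b < 7 → rgAll (candAll TA TA F23L.ov5 F23L.op5 10 43 15264 8629 11034 0 1 5 8 11 17 LA certA) 10 (2 ^ 10 * b) = true := by
  intro b h1 h2
  interval_cases b
  · exact scanA_0
  · exact scanA_1
  · exact scanA_2
  · exact scanA_3
  · exact scanA_4
  · exact scanA_5
  · exact scanA_6

end Cfsg.Agent.Helper56.Fi23Out
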