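/-
Helper56 library: kernel-checked certificates for the outer automorphism group of `Fi23` (the centraliser of a).
-/
import Cfsg.Agent.Helper56.Fi23.ChkDefs
import Cfsg.Agent.Helper56.Fi23.DataA

set_option autoImplicit false

namespace Cfsg.Agent.Helper56.Fi23Out

open Cfsg.Agent.Helper28 Cfsg.Agent.Helper56.FiOut

theorem scanA_7 : rgAll (candAll TA TA F23L.ov5 F23L.op5 10 43 15264 8629 11034 0 1 5 8 11 17 LA certA) 10 (2 ^ 10 * 7) = true := by decide +kernel
theorem scanA_8 : rgAll (candAll TA TA F23L.ov5 F23L.op5 10 43 15264 8629 11034 0 1 5 8 11 17 LA certA) 10 (2 ^ 10 * 8) = true := by decide +kernel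
theorem scanA_9 : rgAll (candAll TA TA F23L.ov5 F23L.op5 10 43 15264 8629 11034 0 1 5 8 11 17 LA certA) 10 (2 ^ 10 * 9) = true := by decide +kernel
theorem scanA_10 : rgAll (candAll TA TA F23L.ov5 F23L.op5 10 43 15264 8629 11034 0 1 5 8 11 17 LA certA) 10 (2 ^ 10 * 10) = true := by decide +kernel
theorem scanA_11 : rgAll (candAll TA TA F23L.ov5 F23L.op5 10 43 15264 8629 11034 0 1 5 8 11 17 LA certA) 10 (2 ^ 10 * 11) = true := by decide +kernel
theorem scanA_12 : rgAll (candAll TA TA F23L.ov5 F23L.op5 10 43 15264 8629 11034 0 1 5 8 11 17 LA certA) 10 (2 ^ 10 * 12) = true := by decide +kernel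
theorem scanA_13 : rgAll (candAll TA TA F23L.ov5 F23L.op5 10 43 15264 8629 11034 0 1 5 8 11 17 LA certA) 10 (2 ^ 10 * 13) = true := by decide +kernel
theorem scanA_14 : rgAll (candAll TA TA F23L.ov5 F23L.op5 10 43 15264 8629 11034 0 1 5 8 11 17 LA certA) 10 (2 ^ 10 * 14) = true := by decide +kernel

theorem scanA_cover_7 : ∀ b, 7 ≤ b → b < 15 → rgAll (candAll TA TA F23L.ov5 F23L.op5 10 43 15264 8629 11034 0 1 5 8 11 17 LA certA) 10 (2 ^ 10 * b) = true := by
  intro b h1 h2
  interval_cases b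
  · exact scanA_7
  · exact scanA_8
  · exact scanA_9
  · exact scanA_10
  · exact scanA_11
  · exact scanA_12
  · exact scanA_13
  · exact scanA_14

end Cfsg.Agent.Helper56.Fi23Out
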