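/-
Helper56 library: kernel-checked certificates for the outer automorphism group of `Fi23` (the centraliser of a).
-/
import Cfsg.Agent.Helper56.Fi23.ChkDefs
import Cfsg.Agent.Helper56.Fi23.DataA

set_option autoImplicit false

namespace Cfsg.Agent.Helper56.Fi23Out

open Cfsg.Agent.Helper28 Cfsg.Agent.Helper56.FiOut

theorem scanA_15 : rgAll (candAll TA TA F23L.ov5 F23L.op5 10 43 15264 8629 11034 0 1 5 8 11 17 LA certA) 10 (2 ^ 10 * 15) = true := by decide +kernel
theorem scanA_16 : rgAll (candAll TA TA F23L.ov5 F23L.op5 10 43 15264 8629 11034 0 1 5 8 11 17 LA certA) 10 (2 ^ 10 * 16) = true := by decide +kernel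
theorem scanA_17 : rgAll (candAll TA TA F23L.ov5 F23L.op5 10 43 15264 8629 11034 0 1 5 8 11 17 LA certA) 10 (2 ^ 10 * 17) = true := by decide +kernel
theorem scanA_18 : rgAll (candAll TA TA F23L.ov5 F23L.op5 10 43 15264 8629 11034 0 1 5 8 11 17 LA certA) 10 (2 ^ 10 * 18) = true := by decide +kernel
theorem scanA_19 : rgAll (candAll TA TA F23L.ov5 F23L.op5 10 43 15264 8629 11034 0 1 5 8 11 17 LA certA) 10 (2 ^ 10 * 19) = true := by decide +kernel
theorem scanA_20 : rgAll (candAll TA TA F23L.ov5 F23L.op5 10 43 15264 8629 11034 0 1 5 8 11 17 LA certA) 10 (2 ^ 10 * 20) = true := by decide +kernel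
theorem scanA_21 : rgAll (candAll TA TA F23L.ov5 F23L.op5 10 43 15264 8629 11034 0 1 5 8 11 17 LA certA) 10 (2 ^ 10 * 21) = true := by decide +kernel
theorem scanA_22 : rgAll (candAll TA TA F23L.ov5 F23L.op5 10 43 15264 8629 11034 0 1 5 8 11 17 LA certA) 10 (2 ^ 10 * 22) = true := by decide +kernel

theorem scanA_cover_15 : ∀ b, 15 ≤ b → b < 23 → rgAll (candAll TA TA F23L.ov5 F23L.op5 10 43 15264 8629 11034 0 1 5 8 11 17 LA certA) 10 (2 ^ 10 * b) = true := by
  intro b h1 h2
  interval_cases b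
  · exact scanA_15
  · exact scanA_16
  · exact scanA_17
  · exact scanA_18
  · exact scanA_19
  · exact scanA_20
  · exact scanA_21
  · exact scanA_22

end Cfsg.Agent.Helper56.Fi23Out
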