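/-
Helper56 library: kernel-checked certificates for the outer automorphism group of `Fi23` (the centraliser of a).
-/
import Cfsg.Agent.Helper56.Fi23.ChkDefs
import Cfsg.Agent.Helper56.Fi23.DataA

set_option autoImplicit false

namespace Cfsg.Agent.Helper56.Fi23Out

open Cfsg.Agent.Helper28 Cfsg.Agent.Helper56.FiOut

theorem scanA_23 : rgAll (candAll TA TA F23L.ov5 F23L.op5 10 43 15264 8629 11034 0 1 5 8 11 17 LA certA) 10 (2 ^ 10 * 23) = true := by decide +kernel
theorem scanA_24 : rgAll (candAll TA TA F23L.ov5 F23L.op5 10 43 15264 8629 11034 0 1 5 8 11 17 LA certA) 10 (2 ^ 10 * 24) = true := by decide +kernel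
theorem scanA_25 : rgAll (candAll TA TA F23L.ov5 F23L.op5 10 43 15264 8629 11034 0 1 5 8 11 17 LA certA) 10 (2 ^ 10 * 25) = true := by decide +kernel
theorem scanA_26 : rgAll (candAll TA TA F23L.ov5 F23L.op5 10 43 15264 8629 11034 0 1 5 8 11 17 LA certA) 10 (2 ^ 10 * 26) = true := by decide +kernel
theorem scanA_27 : rgAll (candAll TA TA F23L.ov5 F23L.op5 10 43 15264 8629 11034 0 1 5 8 11 17 LA certA) 10 (2 ^ 10 * 27) = true := by decide +kernel
theorem scanA_28 : rgAll (candAll TA TA F23L.ov5 F23L.op5 10 43 15264 8629 11034 0 1 5 8 11 17 LA certA) 10 (2 ^ 10 * 28) = true := by decide +kernel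
theorem scanA_29 : rgAll (candAll TA TA F23L.ov5 F23L.op5 10 43 15264 8629 11034 0 1 5 8 11 17 LA certA) 10 (2 ^ 10 * 29) = true := by decide +kernel
theorem scanA_30 : rgAll (candAll TA TA F23L.ov5 F23L.op5 10 43 15264 8629 11034 0 1 5 8 11 17 LA certA) 10 (2 ^ 10 * 30) = true := by decide +kernel

theorem scanA_cover_23 : ∀ b, 23 ≤ b → b < 31 → rgAll (candAll TA TA F23L.ov5 F23L.op5 10 43 15264 8629 11034 0 1 5 8 11 17 LA certA) 10 (2 ^ 10 * b) = true := by
  intro b h1 h2
  interval_cases b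
  · exact scanA_23
  · exact scanA_24
  · exact scanA_25
  · exact scanA_26
  · exact scanA_27
  · exact scanA_28
  · exact scanA_29
  · exact scanA_30

end Cfsg.Agent.Helper56.Fi23Out
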