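/-
Helper56 library: kernel-checked certificates for the outer automorphism group of `Fi23` (the conjugators of t).
-/
import Cfsg.Agent.Helper56.Fi23.ChkDefs
import Cfsg.Agent.Helper56.Fi23.DataC

set_option autoImplicit false

namespace Cfsg.Agent.Helper56.Fi23Out

open Cfsg.Agent.Helper28 Cfsg.Agent.Helper56.FiOut

theorem scanC_15 : rgAll (candAll TT TTJ ovT opT 10 18543 11832 20541 27565 0 2 4 7 9 32 LX certC) 10 (2 ^ 10 * 15) = true := by decide +kernel
theorem scanC_16 : rgAll (candAll TT TTJ ovT opT 10 18543 11832 20541 27565 0 2 4 7 9 32 LX certC) 10 (2 ^ 10 * 16) = true := by decide +kernel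
theorem scanC_17 : rgAll (candAll TT TTJ ovT opT 10 18543 11832 20541 27565 0 2 4 7 9 32 LX certC) 10 (2 ^ 10 * 17) = true := by decide +kernel
theorem scanC_18 : rgAll (candAll TT TTJ ovT opT 10 18543 11832 20541 27565 0 2 4 7 9 32 LX certC) 10 (2 ^ 10 * 18) = true := by decide +kernel
theorem scanC_19 : rgAll (candAll TT TTJ ovT opT 10 18543 11832 20541 27565 0 2 4 7 9 32 LX certC) 10 (2 ^ 10 * 19) = true := by decide +kernel
theorem scanC_20 : rgAll (candAll TT TTJ ovT opT 10 18543 11832 20541 27565 0 2 4 7 9 32 LX certC) 10 (2 ^ 10 * 20) = true := by decide +kernel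
theorem scanC_21 : rgAll (candAll TT TTJ ovT opT 10 18543 11832 20541 27565 0 2 4 7 9 32 LX certC) 10 (2 ^ 10 * 21) = true := by decide +kernel
theorem scanC_22 : rgAll (candAll TT TTJ ovT opT 10 18543 11832 20541 27565 0 2 4 7 9 32 LX certC) 10 (2 ^ 10 * 22) = true := by decide +kernel

theorem scanC_cover_15 : ∀ b, 15 ≤ b → b < 23 → rgAll (candAll TT TTJ ovT opT 10 18543 11832 20541 27565 0 2 4 7 9 32 LX certC) 10 (2 ^ 10 * b) = true := by
  intro b h1 h2
  interval_cases b
  · exact scanC_15
  · exact scanC_16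
  · exact scanC_17
  · exact scanC_18
  · exact scanC_19
  · exact scanC_20
  · exact scanC_21
  · exact scanC_22

end Cfsg.Agent.Helper56.Fi23Out
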