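/-
Helper56 library: kernel-checked certificates for the outer automorphism group of `Fi23` (the conjugators of t).
-/
import Cfsg.Agent.Helper56.Fi23.ChkDefs
import Cfsg.Agent.Helper56.Fi23.DataC

set_option autoImplicit false

namespace Cfsg.Agent.Helper56.Fi23Out

open Cfsg.Agent.Helper28 Cfsg.Agent.Helper56.FiOut

theorem scanC_23 : rgAll (candAll TT TTJ ovT opT 10 18543 11832 20541 27565 0 2 4 7 9 32 LX certC) 10 (2 ^ 10 * 23) = true := by decide +kernel
theorem scanC_24 : rgAll (candAll TT TTJ ovT opT 10 18543 11832 20541 27565 0 2 4 7 9 32 LX certC) 10 (2 ^ 10 * 24) = true := by decide +kernel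
theorem scanC_25 : rgAll (candAll TT TTJ ovT opT 10 18543 11832 20541 27565 0 2 4 7 9 32 LX certC) 10 (2 ^ 10 * 25) = true := by decide +kernel
theorem scanC_26 : rgAll (candAll TT TTJ ovT opT 10 18543 11832 20541 27565 0 2 4 7 9 32 LX certC) 10 (2 ^ 10 * 26) = true := by decide +kernel
theorem scanC_27 : rgAll (candAll TT TTJ ovT opT 10 18543 11832 20541 27565 0 2 4 7 9 32 LX certC) 10 (2 ^ 10 * 27) = true := by decide +kernel
theorem scanC_28 : rgAll (candAll TT TTJ ovT opT 10 18543 11832 20541 27565 0 2 4 7 9 32 LX certC) 10 (2 ^ 10 * 28) = true := by decide +kernel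
theorem scanC_29 : rgAll (candAll TT TTJ ovT opT 10 18543 11832 20541 27565 0 2 4 7 9 32 LX certC) 10 (2 ^ 10 * 29) = true := by decide +kernel
theorem scanC_30 : rgAll (candAll TT TTJ ovT opT 10 18543 11832 20541 27565 0 2 4 7 9 32 LX certC) 10 (2 ^ 10 * 30) = true := by decide +kernel

theorem scanC_cover_23 : ∀ b, 23 ≤ b → b < 31 → rgAll (candAll TT TTJ ovT opT 10 18543 11832 20541 27565 0 2 4 7 9 32 LX certC) 10 (2 ^ 10 * b) = true := by
  intro b h1 h2
  interval_cases b
  · exact scanC_23
  · exact scanC_24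
  · exact scanC_25
  · exact scanC_26
  · exact scanC_27
  · exact scanC_28
  · exact scanC_29
  · exact scanC_30

end Cfsg.Agent.Helper56.Fi23Out
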