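/-
Helper56 library: kernel-checked certificates for the outer automorphism group of `Fi23` (single checks).
-/
import Cfsg.Agent.Helper56.Fi23.ChkDefs

set_option autoImplicit false

namespace Cfsg.Agent.Helper56.Fi23Out

open Cfsg.Agent.Helper28 Cfsg.Agent.Helper56.FiOut

theorem g0A_ok : (Nat.beq (wq W0A 0) 10 && (Nat.beq (wq W0A 1) 43 && (Nat.beq (wq W0A 224) 15264 &&
    (Nat.beq (wq W0A 1640) 8629 && Nat.beq (wq W0A 2) 11034)))) = true := by decide +kernel

theorem uA_ok : (Nat.beq (iterT TA 0 10) 10 && (Nat.beq (iterT TA 1 10) 43 && (Nat.beq (iterT TA 5 10) 15264 &&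
    (Nat.beq (iterT TA 8 10) 8629 && Nat.beq (iterT TA 11 10) 11034)))) = true := by decide +kernel

theorem g0T_ok : (Nat.beq (wq W0T 0) 10 && (Nat.beq (wq W0T 1) 18543 && (Nat.beq (wq W0T 224) 11832 &&
    (Nat.beq (wq W0T 1640) 20541 && Nat.beq (wq W0T 2) 27565)))) = true := by decide +kernel

theorem uT_ok : (Nat.beq (iterT TT 0 10) 10 && (Nat.beq (iterT TT 2 10) 18543 && (Nat.beq (iterT TT 4 10) 11832 &&
    (Nat.beq (iterT TT 7 10) 20541 && Nat.beq (iterT TT 9 10) 27565)))) = true := by decide +kernel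

theorem ordA_ok : base5 (fun b => Nat.beq (iterT TA 17 b) b) = true := by decide +kernel

theorem neA_ok : Nat.beq (tabAt TA 10) 10 = false := by decide +kernel

theorem relTA_ok : base5 (fun b => Nat.beq (tabAt TT (tabAt TA b)) (iterT TA 3 (tabAt TT b))) = true := by
  decide +kernel

theorem relXT_ok : base5 (fun b => Nat.beq (tabAt TX (tabAt TT b)) (tabAt TTJ (tabAt TX b))) = true := by
  decide +kernel

theorem ax_ok : base5 (fun b => Nat.beq (iterF (fun i => tabAt TA (tabAt TX i)) 26 b) b) = true := by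
  decide +kernel

theorem aax_ok : base5 (fun b => Nat.beq (iterF (fun i => tabAt TA2 (tabAt TX i)) 28 b) b) = true := by
  decide +kernel

theorem la_0 : rgAll (laChk) 5 (2 ^ 5 * 0) = true := by decide +kernel
theorem gen_0 : rgAll (genChk) 4 (2 ^ 4 * 0) = true := by decide +kernel
theorem lbT_0 : rgAll (lbTChk) 5 (2 ^ 5 * 0) = true := by decide +kernel

end Cfsg.Agent.Helper56.Fi23Out
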