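/-
Helper56 library: kernel-checked certificates for the outer automorphism group of `Fi23` (the table of the square of a).
-/
import Cfsg.Agent.Helper56.Fi23.ChkDefs

set_option autoImplicit false

namespace Cfsg.Agent.Helper56.Fi23Out

open Cfsg.Agent.Helper28 Cfsg.Agent.Helper56.FiOut

theorem sqA_0 : rgAll (sqChk) 13 (2 ^ 13 * 0) = true := by decide +kernel
theorem sqA_1 : rgAll (sqChk) 13 (2 ^ 13 * 1) = true := by decide +kernel
theorem sqA_2 : rgAll (sqChk) 13 (2 ^ 13 * 2) = true := by decide +kernel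
theorem sqA_3 : rgAll (sqChk) 13 (2 ^ 13 * 3) = true := by decide +kernel

theorem sqA_cover_0 : ∀ b, 0 ≤ b → b < 4 → rgAll (sqChk) 13 (2 ^ 13 * b) = true := by
  intro b h1 h2
  interval_cases b
  · exact sqA_0
  · exact sqA_1
  · exact sqA_2
  · exact sqA_3

end Cfsg.Agent.Helper56.Fi23Out
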