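/-
Helper56 library: kernel-checked certificates for the outer automorphism group of `Fi23` (the table of x).
-/
import Cfsg.Agent.Helper56.Fi23.ChkDefs

set_option autoImplicit false

namespace Cfsg.Agent.Helper56.Fi23Out

open Cfsg.Agent.Helper28 Cfsg.Agent.Helper56.FiOut

theorem tabX_4 : rgAll (tabChk WX TX) 12 (2 ^ 12 * 4) = true := by decide +kernel
theorem tabX_5 : rgAll (tabChk WX TX) 12 (2 ^ 12 * 5) = true := by decide +kernel
theorem tabX_6 : rgAll (tabChk WX TX) 12 (2 ^ 12 * 6) = true := by decide +kernel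
theorem tabX_7 : rgAll (tabChk WX TX) 12 (2 ^ 12 * 7) = true := by decide +kernel

theorem tabX_cover_4 : ∀ b, 4 ≤ b → b < 8 → rgAll (tabChk WX TX) 12 (2 ^ 12 * b) = true := by
  intro b h1 h2
  interval_cases b
  · exact tabX_4
  · exact tabX_5
  · exact tabX_6
  · exact tabX_7

end Cfsg.Agent.Helper56.Fi23Out
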