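/-
Helper56 library: the kernel-checked certificates for the outer automorphism group of `Fi23`, collected.
-/
import Cfsg.Agent.Helper56.Fi23.ChkTabA
import Cfsg.Agent.Helper56.Fi23.ChkSq
import Cfsg.Agent.Helper56.Fi23.ChkPow
import Cfsg.Agent.Helper56.Fi23.ChkTabT0
import Cfsg.Agent.Helper56.Fi23.ChkTabT1
import Cfsg.Agent.Helper56.Fi23.ChkTabX0
import Cfsg.Agent.Helper56.Fi23.ChkTabX1
import Cfsg.Agent.Helper56.Fi23.ChkA0
import Cfsg.Agent.Helper56.Fi23.ChkA1
import Cfsg.Agent.Helper56.Fi23.ChkA2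
import Cfsg.Agent.Helper56.Fi23.ChkA3
import Cfsg.Agent.Helper56.Fi23.ChkC0
import Cfsg.Agent.Helper56.Fi23.ChkC1
import Cfsg.Agent.Helper56.Fi23.ChkC2
import Cfsg.Agent.Helper56.Fi23.ChkC3
import Cfsg.Agent.Helper56.Fi23.ChkHex
import Cfsg.Agent.Helper56.Fi23.ChkMisc

set_option autoImplicit false

namespace Cfsg.Agent.Helper56.Fi23Out

open Cfsg.Agent.Helper28 Cfsg.Agent.Helper56.FiOut

theorem tabA_blocks : ∀ k, k < 4 → rgAll (tabChk WA TA) 13 (2 ^ 13 * k) = true := by
  intro k hk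
  exact tabA_cover_0 k (by omega) hk

theorem sqA_blocks : ∀ k, k < 4 → rgAll (sqChk) 13 (2 ^ 13 * k) = true := by
  intro k hk
  exact sqA_cover_0 k (by omega) hk

theorem powT_blocks : ∀ k, k < 4 → rgAll (powChk) 13 (2 ^ 13 * k) = true := by
  intro k hk
  exact powT_cover_0 k (by omega) hk

theorem tabT_blocks : ∀ k, k < 8 → rgAll (tabChk WT TT) 12 (2 ^ 12 * k) = true := by
  intro k hk
  by_cases h0 : k < 4
  · exact tabT_cover_0 k (by omega) h0
  exact tabT_cover_4 k (by omega) hk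

theorem tabX_blocks : ∀ k, k < 8 → rgAll (tabChk WX TX) 12 (2 ^ 12 * k) = true := by
  intro k hk
  by_cases h0 : k < 4
  · exact tabX_cover_0 k (by omega) h0
  exact tabX_cover_4 k (by omega) hk

theorem scanA_blocks : ∀ k, k < 31 → rgAll (candAll TA TA F23L.ov5 F23L.op5 10 43 15264 8629 11034 0 1 5 8 11 17 LA certA) 10 (2 ^ 10 * k) = true := by
  intro k hk
  by_cases h0 : k < 7
  · exact scanA_cover_0 k (by omega) h0
  by_cases h1 : k < 15
  · exact scanA_cover_7 k (by omega) h1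
  by_cases h2 : k < 23
  · exact scanA_cover_15 k (by omega) h2
  exact scanA_cover_23 k (by omega) hk

theorem scanC_blocks : ∀ k, k < 31 → rgAll (candAll TT TTJ ovT opT 10 18543 11832 20541 27565 0 2 4 7 9 32 LX certC) 10 (2 ^ 10 * k) = true := by
  intro k hk
  by_cases h0 : k < 7
  · exact scanC_cover_0 k (by omega) h0
  by_cases h1 : k < 15
  · exact scanC_cover_7 k (by omega) h1
  by_cases h2 : k < 23
  · exact scanC_cover_15 k (by omega) h2
  exact scanC_cover_23 k (by omega) hk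

theorem hex_blocks : ∀ k, k < 4 → rgAll (hexChk) 3 (2 ^ 3 * k) = true := by
  intro k hk
  exact hex_cover_0 k (by omega) hk

end Cfsg.Agent.Helper56.Fi23Out
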