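/-
Helper56 library: the outer automorphism group of `Fi23` is trivial.  The hypotheses of the
criterion `card_out_one17`: an element `a` of order 17 that is its own centraliser, an element
`t` with `t a t⁻¹ = a³`, the 32 elements `y` with `y t y⁻¹ = t ^ 3`, the element `x` among
them, and generation by `a`, `t`, `x`.
-/
import Cfsg.Agent.Helper56.Fi23.ChkAll
import Cfsg.Agent.Helper56.Fi.Crit17
import Cfsg.Agent.Helper28.TCH
import Cfsg.Agent.Helper28.TCL2

set_option autoImplicit false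

namespace Cfsg.Agent.Helper56.Fi23Out

open Cfsg.Agent.Helper28 Cfsg.Agent.Helper56.FiOut

/-- the element of order 17 -/
noncomputable def aE : Cfsg.Spor.Fi23 := wvQ WA
/-- an element normalising `⟨a⟩` -/
noncomputable def tE : Cfsg.Spor.Fi23 := wvQ WT
/-- an element conjugating `t` to a power -/
noncomputable def xE : Cfsg.Spor.Fi23 := wvQ WX

/-! ### the tables -/

theorem tab_of_chk (W : ℕ) (N : List (List ℕ)) (d K : ℕ) (hK : 31671 ≤ 2 ^ d * K)
    (h : ∀ k, k < K → rgAll (tabChk W N) d (2 ^ d * k) = true) :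
    ∀ i, i < 31671 → pt (wvQ W) i = tabAt N i := by
  intro i hi
  have c := rg_cover _ d K h i (by omega)
  unfold tabChk at c
  rw [Bool.or_eq_true] at c
  rcases c with c | c
  · exact absurd (Nat.le_of_ble_eq_true c) (by omega)
  · rw [pt_wvQ _ hi]; exact Nat.eq_of_beq_eq_true c

theorem tabA : ∀ i, i < 31671 → pt aE i = tabAt TA i :=
  tab_of_chk WA TA 13 4 (by norm_num) tabA_blocks

theorem tabT : ∀ i, i < 31671 → pt tE i = tabAt TT i :=
  tab_of_chk WT TT 12 8 (by norm_num) tabT_blocks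

theorem tabX : ∀ i, i < 31671 → pt xE i = tabAt TX i :=
  tab_of_chk WX TX 12 8 (by norm_num) tabX_blocks

theorem tab_lt {g : Cfsg.Spor.Fi23} {N : List (List ℕ)} (h : ∀ i, i < 31671 → pt g i = tabAt N i) {b : ℕ}
    (hb : b < 31671) : tabAt N b < 31671 := by
  rw [← h b hb]; exact pt_lt _ hb

theorem tabA2 : ∀ i, i < 31671 → pt (aE ^ 2) i = tabAt TA2 i := by
  intro i hi
  have c := rg_cover _ 13 4 sqA_blocks i (by norm_num; omega)
  unfold sqChk at c
  rw [Bool.or_eq_true] at c
  rcases c with c | c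
  · exact absurd (Nat.le_of_ble_eq_true c) (by omega)
  · rw [pow_two, pt_mul, tabA i hi, tabA _ (tab_lt tabA hi)]
    exact (Nat.eq_of_beq_eq_true c).symm

theorem tabTJ : ∀ i, i < 31671 → pt (tE ^ 3) i = tabAt TTJ i := by
  intro i hi
  have c := rg_cover _ 13 4 powT_blocks i (by norm_num; omega)
  unfold powChk at c
  rw [Bool.or_eq_true] at c
  rcases c with c | c
  · exact absurd (Nat.le_of_ble_eq_true c) (by omega)
  · rw [pt_pow_tab tabT 3 hi]
    exact (Nat.eq_of_beq_eq_true c).symm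

/-- equality of two elements through their images of the base -/
theorem eq_of_base5 (x y : Cfsg.Spor.Fi23) (f g : ℕ → ℕ)
    (hx : ∀ b, b < 31671 → pt x b = f b) (hy : ∀ b, b < 31671 → pt y b = g b)
    (h : base5 (fun b => Nat.beq (f b) (g b)) = true) : x = y := by
  obtain ⟨h0, h1, h2, h3, h4⟩ := base5_spec _ h
  apply eq_of_base fifth_std
  · rw [hx 0 (by norm_num), hy 0 (by norm_num)]; exact Nat.eq_of_beq_eq_true h0
  · rw [hx 1 (by norm_num), hy 1 (by norm_num)]; exact Nat.eq_of_beq_eq_true h1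
  · rw [hx 224 (by norm_num), hy 224 (by norm_num)]; exact Nat.eq_of_beq_eq_true h2
  · rw [hx 1640 (by norm_num), hy 1640 (by norm_num)]; exact Nat.eq_of_beq_eq_true h3
  · rw [hx 2 (by norm_num), hy 2 (by norm_num)]; exact Nat.eq_of_beq_eq_true h4

/-! ### the relations -/

theorem order_a : orderOf aE = 17 := by
  have : Fact (Nat.Prime 17) := ⟨by norm_num⟩
  refine orderOf_eq_prime ?_ ?_
  · exact eq_of_base5 _ 1 (fun b => iterT TA 17 b) (fun b => b)
      (fun b hb => pt_pow_tab tabA 17 hb) (fun b _ => pt_one b) ordA_ok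
  · intro h
    have h1 := tabA 10 (by norm_num)
    rw [h, pt_one] at h1
    have h2 := neA_ok
    rw [← h1] at h2
    exact absurd h2 (by decide)

theorem t_conj_a : tE * aE * tE⁻¹ = aE ^ 3 := by
  have e : tE * aE = aE ^ 3 * tE :=
    eq_of_base5 _ _ (fun b => tabAt TT (tabAt TA b)) (fun b => iterT TA 3 (tabAt TT b))
      (fun b hb => by rw [pt_mul, tabA b hb, tabT _ (tab_lt tabA hb)])
      (fun b hb => by rw [pt_mul, tabT b hb, pt_pow_tab tabA 3 (tab_lt tabT hb)]) relTA_ok
  rw [e, mul_inv_cancel_right]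

theorem x_conj_t : xE * tE = tE ^ 3 * xE :=
  eq_of_base5 _ _ (fun b => tabAt TX (tabAt TT b)) (fun b => tabAt TTJ (tabAt TX b))
    (fun b hb => by rw [pt_mul, tabT b hb, tabX _ (tab_lt tabT hb)])
    (fun b hb => by rw [pt_mul, tabX b hb, tabTJ _ (tab_lt tabX hb)]) relXT_ok

theorem ax_pow : (aE * xE) ^ 26 = 1 :=
  eq_of_base5 _ 1 (fun b => iterF (fun i => tabAt TA (tabAt TX i)) 26 b) (fun b => b)
    (fun b hb => pt_pow_iterF (fun i hi => by rw [pt_mul, tabX i hi, tabA _ (tab_lt tabX hi)])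
      26 hb)
    (fun b _ => pt_one b) ax_ok

theorem aax_pow : (aE ^ 2 * xE) ^ 28 = 1 :=
  eq_of_base5 _ 1 (fun b => iterF (fun i => tabAt TA2 (tabAt TX i)) 28 b) (fun b => b)
    (fun b hb => pt_pow_iterF (fun i hi => by rw [pt_mul, tabX i hi, tabA2 _ (tab_lt tabX hi)])
      28 hb)
    (fun b _ => pt_one b) aax_ok

/-! ### the two scans -/

theorem scanA_all (y : ℕ) (hy : y < 31671) :
    candAll TA TA F23L.ov5 F23L.op5 10 43 15264 8629 11034 0 1 5 8 11 17 LA certA y = true :=
  rg_cover _ 10 31 scanA_blocks y (by norm_num; omega)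

theorem scanC_all (y : ℕ) (hy : y < 31671) :
    candAll TT TTJ ovT opT 10 18543 11832 20541 27565 0 2 4 7 9 32 LX certC y = true :=
  rg_cover _ 10 31 scanC_blocks y (by norm_num; omega)

/-- the fifth base point used for `t` -/
theorem fifthT : Fifth 2 ovT opT := by
  have h := fifth_of_lb ovT opT otpT otwT (fun t ht => by
    have c := rgAll_spec _ _ _ lbT_0 t (by omega) (by norm_num; omega)
    unfold lbTChk at c
    rw [Bool.or_eq_true] at c
    rcases c with c | c
    · exact absurd (Nat.le_of_ble_eq_true c) (by omega)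
    · exact c)
  rw [show ovT 0 = 2 from by decide +kernel] at h
  exact h

/-- The element `a` of order 17 is its own centraliser. -/
theorem cent_a (c : Cfsg.Spor.Fi23) (hc : c * aE = aE * c) : c ∈ Subgroup.zpowers aE := by
  obtain ⟨g1, g2, g3, g4, g5⟩ := and5 g0A_ok
  obtain ⟨v1, v2, v3, v4, v5⟩ := and5 uA_ok
  obtain ⟨idx, hidx, e⟩ := cand_sound tabA tabA fifth_std (wvQ W0A) (show 10 < 31671 by norm_num)
    (by rw [pt_wvQ _ (by norm_num)]; exact Nat.eq_of_beq_eq_true g1)
    (by rw [pt_wvQ _ (by norm_num)]; exact Nat.eq_of_beq_eq_true g2)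
    (by rw [pt_wvQ _ (by norm_num)]; exact Nat.eq_of_beq_eq_true g3)
    (by rw [pt_wvQ _ (by norm_num)]; exact Nat.eq_of_beq_eq_true g4)
    (by rw [pt_wvQ _ (by norm_num)]; exact Nat.eq_of_beq_eq_true g5)
    (Nat.eq_of_beq_eq_true v1) (Nat.eq_of_beq_eq_true v2) (Nat.eq_of_beq_eq_true v3)
    (Nat.eq_of_beq_eq_true v4) (Nat.eq_of_beq_eq_true v5) scanA_all c hc
  have l := rgAll_spec _ _ _ la_0 idx (by omega) (by norm_num; omega)
  unfold laChk at l
  rw [Bool.or_eq_true] at l
  rcases l with l | l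
  · exact absurd (Nat.le_of_ble_eq_true l) (by omega)
  rw [natLetB_eq] at l
  have e2 : wvQ (nthN LA idx) = aE ^ idx :=
    eq_of_base5 _ _ (fun b => wq (nthN LA idx) b) (fun b => iterT TA idx b)
      (fun b hb => pt_wvQ _ hb) (fun b hb => pt_pow_tab tabA idx hb) l
  rw [e, e2]
  exact Subgroup.pow_mem _ (Subgroup.mem_zpowers _) idx

/-- The element `x` is the only element conjugating `t` to `t ^ 3` with the two relations. -/
theorem excl (y : Cfsg.Spor.Fi23) (hy : y * tE = tE ^ 3 * y) (h1 : (aE * y) ^ 26 = 1)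
    (h2 : (aE ^ 2 * y) ^ 28 = 1) : y = xE := by
  obtain ⟨g1, g2, g3, g4, g5⟩ := and5 g0T_ok
  obtain ⟨v1, v2, v3, v4, v5⟩ := and5 uT_ok
  obtain ⟨idx, hidx, e⟩ := cand_sound tabT tabTJ fifthT (wvQ W0T) (show 10 < 31671 by norm_num)
    (by rw [pt_wvQ _ (by norm_num)]; exact Nat.eq_of_beq_eq_true g1)
    (by rw [pt_wvQ _ (by norm_num)]; exact Nat.eq_of_beq_eq_true g2)
    (by rw [pt_wvQ _ (by norm_num)]; exact Nat.eq_of_beq_eq_true g3)
    (by rw [pt_wvQ _ (by norm_num)]; exact Nat.eq_of_beq_eq_true g4)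
    (by rw [pt_wvQ _ (by norm_num)]; exact Nat.eq_of_beq_eq_true g5)
    (Nat.eq_of_beq_eq_true v1) (Nat.eq_of_beq_eq_true v2) (Nat.eq_of_beq_eq_true v3)
    (Nat.eq_of_beq_eq_true v4) (Nat.eq_of_beq_eq_true v5) scanC_all y hy
  have l := rg_cover _ 3 4 hex_blocks idx (by norm_num; omega)
  unfold hexChk at l
  rw [Bool.or_eq_true] at l
  rcases l with l | l
  · exact absurd (Nat.le_of_ble_eq_true l) (by omega)
  rw [natLetB_eq, natLetB_eq] at l
  rw [e] at h1 h2
  generalize nthN LX idx = H at e l h1 h2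
  generalize nthN hexD idx = d at l
  cases hd0 : Nat.beq d 0 with
  | true =>
    rw [hd0, cond_true] at l
    rw [e, Nat.eq_of_beq_eq_true l]
    rfl
  | false =>
    rw [hd0, cond_false, natLetB_eq, Bool.and_eq_true] at l
    obtain ⟨lz, l⟩ := l
    have hz : Nat.shiftRight d 2 < 31671 := Nat.blt_eq.mp lz
    generalize Nat.shiftRight d 2 = z at l hz
    exfalso
    cases hd1 : Nat.beq (Nat.land d 3) 1 with
    | true =>
      rw [hd1, cond_true] at l
      have hf : ∀ i, i < 31671 → pt (aE * wvQ H) i = tabAt TA (wq H i) := by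
        intro i hi
        rw [pt_mul, pt_wvQ _ hi, tabA _ (wq_lt _ hi)]
      have h3 := pt_pow_iterF hf 26 hz
      rw [h1, pt_one] at h3
      rw [← h3, Nat.beq_refl] at l
      exact absurd l (by decide)
    | false =>
      rw [hd1, cond_false] at l
      have hf : ∀ i, i < 31671 → pt (aE ^ 2 * wvQ H) i = tabAt TA2 (wq H i) := by
        intro i hi
        rw [pt_mul, pt_wvQ _ hi, tabA2 _ (wq_lt _ hi)]
      have h3 := pt_pow_iterF hf 28 hz
      rw [h2, pt_one] at h3
      rw [← h3, Nat.beq_refl] at l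
      exact absurd l (by decide)

/-! ### generation -/

/-- the three generators -/
noncomputable def val3 : ℕ → Cfsg.Spor.Fi23
  | 0 => aE
  | 1 => tE
  | _ => xE

theorem pt_val3 (c : ℕ) (hc : c < 3) (i : ℕ) (hi : i < 31671) : pt (val3 c) i = tab3 c i := by
  interval_cases c
  · exact tabA i hi
  · exact tabT i hi
  · exact tabX i hi

theorem walk_val3 (l : List ℕ) (hl : ∀ c ∈ l, c < 3) {b : ℕ} (hb : b < 31671) :
    pt ((l.map val3).prod) b = walkA tab3 l b := by
  induction l with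
  | nil => exact pt_one b
  | cons c l ih =>
    have ih' := ih (fun d hd => hl d (List.mem_cons_of_mem _ hd))
    rw [List.map_cons, List.prod_cons, pt_mul, ih',
      pt_val3 c (hl c List.mem_cons_self) _ (by rw [← ih']; exact pt_lt _ hb), walkA_cons]

theorem val3_mem (c : ℕ) : val3 c ∈ Subgroup.closure ({aE, tE, xE} : Set Cfsg.Spor.Fi23) := by
  rcases c with _ | _ | c
  · exact Subgroup.subset_closure (Or.inl rfl)
  · exact Subgroup.subset_closure (Or.inr (Or.inl rfl))
  · exact Subgroup.subset_closure (Or.inr (Or.inr rfl))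

theorem prod_val3_mem (l : List ℕ) :
    (l.map val3).prod ∈ Subgroup.closure ({aE, tE, xE} : Set Cfsg.Spor.Fi23) := by
  induction l with
  | nil => exact Subgroup.one_mem _
  | cons c l ih =>
    rw [List.map_cons, List.prod_cons]
    exact Subgroup.mul_mem _ (val3_mem c) ih

theorem gv_mem (k : ℕ) (hk : k < 10) :
    gv k ∈ Subgroup.closure ({aE, tE, xE} : Set Cfsg.Spor.Fi23) := by
  have l := rgAll_spec _ _ _ gen_0 k (by omega) (by norm_num; omega)
  unfold genChk at l
  rw [Bool.or_eq_true] at l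
  rcases l with l | l
  · exact absurd (Nat.le_of_ble_eq_true l) (by omega)
  rw [Bool.and_eq_true] at l
  have hlet := (letChk_iff _ _).mp l.1
  have e : gv k = ((nthL genSW k).map val3).prod :=
    eq_of_base5 _ _ (fun b => C1689.T k b) (fun b => walkA tab3 (nthL genSW k) b)
      (fun b hb => pt_gv k hk hb) (fun b hb => walk_val3 _ hlet hb) l.2
  rw [e]
  exact prod_val3_mem _

theorem gv_eq_of (k : ℕ) (hk : k < C1689.D.jc) : gv k = PresentedGroup.of (C1689.gen k) :=
  Cfsg.Agent.Helper28.coxVal_of k hk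

theorem gen_surj (g0 : Cfsg.Spor.Fi23.Gen) : ∃ k, k < 10 ∧ C1689.gen k = g0 := by
  cases g0
  · exact ⟨0, by norm_num, rfl⟩
  · exact ⟨1, by norm_num, rfl⟩
  · exact ⟨2, by norm_num, rfl⟩
  · exact ⟨3, by norm_num, rfl⟩
  · exact ⟨4, by norm_num, rfl⟩
  · exact ⟨5, by norm_num, rfl⟩
  · exact ⟨6, by norm_num, rfl⟩
  · exact ⟨7, by norm_num, rfl⟩
  · exact ⟨8, by norm_num, rfl⟩
  · exact ⟨9, by norm_num, rfl⟩

theorem gen_top : Subgroup.closure ({aE, tE, xE} : Set Cfsg.Spor.Fi23) = ⊤ := by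
  rw [eq_top_iff, ← PresentedGroup.closure_range_of]
  apply (Subgroup.closure_le _).mpr
  rintro _ ⟨g0, rfl⟩
  obtain ⟨k, hk, rfl⟩ := gen_surj g0
  have h := gv_mem k hk
  rw [gv_eq_of k (by rw [jc_eq]; exact hk)] at h
  exact h

/-! ### the conclusion -/

theorem card_fact : (Nat.card Cfsg.Spor.Fi23).factorization 17 = 1 := by
  rw [F23.card_eq, show (4089470473293004800 : ℕ) = 17 * 240557086664294400 by norm_num,
    Nat.factorization_mul (by norm_num) (by norm_num)]
  have h1 : (17 : ℕ).factorization 17 = 1 :=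
    Nat.Prime.factorization_self (by norm_num)
  have h2 : (240557086664294400 : ℕ).factorization 17 = 0 :=
    Nat.factorization_eq_zero_of_not_dvd (by norm_num)
  rw [Finsupp.add_apply, h1, h2]

/-- The outer automorphism group of `Fi23` is trivial. -/
theorem card_out_one : Nat.card (Cfsg.Out Cfsg.Spor.Fi23) = 1 := by
  have hfin := F23.finite
  exact card_out_one17 card_fact order_a t_conj_a cent_a 3 x_conj_t 26 28 excl ax_pow
    aax_pow gen_top

end Cfsg.Agent.Helper56.Fi23Out
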